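import Groth.Prelude.Def_QuotSh
import Mathlib.AlgebraicGeometry.EffectiveEpi
import Mathlib.CategoryTheory.Sites.RegularEpi
import Mathlib.CategoryTheory.Sites.EpiMono
import Mathlib.CategoryTheory.Sites.LeftExact
import Mathlib.CategoryTheory.Limits.Constructions.Over.Connected

/-!
Quotient sheaves from epimorphisms.
-/

universe u

open CategoryTheory CategoryTheory.Limits AlgebraicGeometry

set_option backward.isDefEq.respectTransparency.types false

noncomputable section

namespace Groth.Agent.QuotSh6.Basic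

variable (K : Precoverage Scheme.{u}) {S : Scheme.{u}}

/-- the functor sending a scheme over the base to its sheaf -/
def repFun : Over S ⥤ QuotSh.Sh K S :=
  (yoneda ⋙ (Functor.whiskeringRight (Over S)ᵒᵖ (Type u) (Type (u + 1))).obj uliftFunctor.{u + 1, u}) ⋙
    presheafToSheaf (QuotSh.J K S) (Type (u + 1))

theorem isPullback_over {R U M : Over S} (t s : R ⟶ U) (q : U ⟶ M)
    (h : IsPullback t.left s.left q.left q.left) : IsPullback t s q q := by
  refine IsPullback.of_map (F := Over.forget S) ?_ h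
  exact Over.OverMorphism.ext h.w

theorem isQuotient {R U M : Over S} (s t : R ⟶ U) (q : U ⟶ M) (w : s ≫ q = t ≫ q) [hq : Epi (QuotSh.repMap K q)]
    {P : Over S} (p₁ p₂ : P ⟶ U) (hP : IsPullback p₁ p₂ q q) (e : R ⟶ P) [he : Epi (QuotSh.repMap K e)]
    (h₁ : e ≫ p₁ = t) (h₂ : e ≫ p₂ = s) : QuotSh.IsQuotient K s t q := by
  refine ⟨w, ?_⟩
  let F := repFun K (S := S)
  haveI : PreservesLimitsOfSize.{0, 0} (yoneda : Over S ⥤ _) := inferInstance
  haveI : PreservesLimitsOfShape WalkingCospan F := by
    unfold F repFun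
    infer_instance
  haveI : Epi (F.map q) := hq
  haveI : Epi (F.map e) := he
  have hP' : IsPullback (F.map p₁) (F.map p₂) (F.map q) (F.map q) := hP.map F
  haveI : IsRegularEpi (F.map q) := IsRegularEpiCategory.regularEpiOfEpi _
  have hcol := isColimitCoforkOfEffectiveEpi (F.map q) hP'.cone hP'.isLimit
  let π : F.obj U ⟶ QuotSh.quot K s t := QuotSh.quotπ K s t
  have hc : F.map p₁ ≫ π = F.map p₂ ≫ π := by
    rw [← cancel_epi (F.map e), ← Category.assoc, ← Category.assoc, ← F.map_comp, ← F.map_comp, h₁, h₂]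
    exact (QuotSh.quot_condition K s t).symm
  obtain ⟨inv, hinv⟩ : ∃ i : F.obj M ⟶ QuotSh.quot K s t, F.map q ≫ i = π :=
    ⟨(Cofork.IsColimit.desc' hcol π hc).1, (Cofork.IsColimit.desc' hcol π hc).2⟩
  refine ⟨⟨inv, ?_, ?_⟩⟩
  · apply coequalizer.hom_ext
    refine (Category.assoc _ _ _).symm.trans (Eq.trans ?_ (Category.comp_id _).symm)
    show (coequalizer.π _ _ ≫ coequalizer.desc _ _) ≫ inv = _
    rw [coequalizer.π_desc]
    exact hinv
  · refine (cancel_epi (F.map q)).1 ?_
    refine (Category.assoc _ _ _).symm.trans (Eq.trans ?_ (Category.comp_id _).symm)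
    refine (congrArg (· ≫ _) hinv).trans ?_
    exact coequalizer.π_desc _ _

theorem epi_of_cover {U M : Over S} (q : U ⟶ M) (h : Sieve.generate (Presieve.singleton q.left) ∈ K.toGrothendieck M.left) :
    Epi (QuotSh.repMap K q) := by
  have hl : Presheaf.IsLocallySurjective (QuotSh.J K S) (Functor.whiskerRight (yoneda.map q) uliftFunctor.{u + 1, u}) := by
    refine ⟨fun {V} v => ?_⟩
    rw [GrothendieckTopology.mem_over_iff]
    refine GrothendieckTopology.superset_covering _ ?_
      ((K.toGrothendieck).pullback_stable (v : ULift _).down.left h)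
    intro Z g hg
    obtain ⟨W, a, b, hb, hab⟩ := hg
    obtain ⟨⟩ := hb
    rw [Sieve.overEquiv_iff]
    refine ⟨ULift.up (Over.homMk a ?_), ?_⟩
    · show a ≫ U.hom = g ≫ V.hom
      rw [← Over.w q, ← Category.assoc, hab, Category.assoc, Over.w]
    · exact congrArg ULift.up (Over.OverMorphism.ext hab)
  have : Sheaf.IsLocallySurjective (QuotSh.repMap K q) :=
    (Presheaf.isLocallySurjective_presheafToSheaf_map_iff _ _).2 hl
  infer_instance

end Groth.Agent.QuotSh6.Basic

end
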