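import Groth.Agent.QuotSh6.Basic
import Groth.Agent.Grpd6.FlatQuot

/-!
The finite flat quotient is the fppf quotient sheaf.
-/

universe u

open CategoryTheory CategoryTheory.Limits AlgebraicGeometry

set_option linter.style.haveILetI false
set_option backward.isDefEq.respectTransparency.types false

noncomputable section

namespace Groth.Agent.QuotSh6.Grpd

variable {S : Scheme.{u}} (G : Grpd.GroupoidScheme S) [IsAffine G.U] [IsAffine G.R] [IsFinite G.s] [Flat G.s]
  [LocallyOfFinitePresentation G.s] [Mono G.j]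

theorem main : ∃! m : Spec (CommRingCat.of G.invariants) ⟶ S, ∃ h : G.toQuot ≫ m = G.pU,
    QuotSh.IsQuotient Scheme.fppfPrecoverage (Over.homMk G.s G.s_over : Over.mk G.pR ⟶ Over.mk G.pU)
      (Over.homMk G.t G.t_over : Over.mk G.pR ⟶ Over.mk G.pU) (Over.homMk G.toQuot h : Over.mk G.pU ⟶ Over.mk m) := by
  obtain ⟨⟨hfin, hflat, hfp⟩, φ, hφ₁, hφ₂⟩ := Grpd6.FlatQuot.main G
  haveI : Surjective G.toQuot := ⟨Grpd6.QuotFibres.main.1.1⟩
  have hc : pullback.fst G.toQuot G.toQuot ≫ G.pU = pullback.snd G.toQuot G.toQuot ≫ G.pU := by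
    rw [← cancel_epi φ.hom, reassoc_of% hφ₁, reassoc_of% hφ₂, G.t_over, G.s_over]
  haveI : EffectiveEpi G.toQuot := inferInstance
  haveI : IsRegularEpi G.toQuot := inferInstance
  obtain ⟨m, hm⟩ := IsRegularEpi.exists_of_isKernelPair G.toQuot (IsPullback.of_hasPullback _ _) G.pU hc
  refine ⟨m, ⟨hm, ?_⟩, ?_⟩
  · let q : Over.mk G.pU ⟶ Over.mk m := Over.homMk G.toQuot hm
    let P : Over S := Over.mk (pullback.fst G.toQuot G.toQuot ≫ G.pU)
    let p₁ : P ⟶ Over.mk G.pU := Over.homMk (pullback.fst G.toQuot G.toQuot) rfl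
    let p₂ : P ⟶ Over.mk G.pU := Over.homMk (pullback.snd G.toQuot G.toQuot) hc.symm
    let e : Over.mk G.pR ≅ P := Over.isoMk φ (by
      show φ.hom ≫ pullback.fst G.toQuot G.toQuot ≫ G.pU = G.pR
      rw [reassoc_of% hφ₁, G.t_over])
    haveI : Epi (QuotSh.repMap Scheme.fppfPrecoverage q) :=
      Basic.epi_of_cover _ q (Precoverage.generate_mem_toGrothendieck (Scheme.Hom.singleton_mem_fppfPrecoverage G.toQuot))
    haveI : Epi (QuotSh.repMap Scheme.fppfPrecoverage e.hom) := by
      haveI : IsIso ((Basic.repFun Scheme.fppfPrecoverage).map e.hom) := inferInstance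
      show Epi ((Basic.repFun Scheme.fppfPrecoverage).map e.hom)
      infer_instance
    refine Basic.isQuotient _ _ _ q ?_ p₁ p₂ (Basic.isPullback_over _ _ _ (IsPullback.of_hasPullback _ _)) e.hom ?_ ?_
    · exact Over.OverMorphism.ext (Grpd6.QuotFibres.t_toQuot (G := G)).symm
    · exact Over.OverMorphism.ext hφ₁
    · exact Over.OverMorphism.ext hφ₂
  · rintro m' ⟨hm', -⟩
    rw [← cancel_epi G.toQuot, hm', hm]

end Groth.Agent.QuotSh6.Grpd

end
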